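import Groth.Agent.SeminormLib.Basic
import Groth.Agent.CurvLib.Euler
import Groth.Agent.MiscFlat6.NormalLowDim
import Groth.Agent.DevissLib.ClosedImm
import Groth.Prelude.Def_CurvBase
import Mathlib

/-!
# Seminormality of reduced connected genus-zero curves
-/

set_option autoImplicit false
set_option maxHeartbeats 800000

universe u

open CategoryTheory CategoryTheory.Limits AlgebraicGeometry Opposite TopologicalSpace

namespace SeminormLib

/-- In a Noetherian scheme a dense open contains a generalization of every point. -/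
theorem exists_mem_specializes {X : Scheme.{u}} [NoetherianSpace X] (U : X.Opens) (hU : Dense (U : Set X)) (x : X) :
    ∃ η ∈ U, η ⤳ x := by
  obtain ⟨o, ho, hne, hsub⟩ := NoetherianSpace.exists_isOpen_nonempty_subset_irreducibleComponent (α := X)
    (irreducibleComponent x) (irreducibleComponent_mem_irreducibleComponents x)
  obtain ⟨q, hqo, hqU⟩ := hU.inter_open_nonempty o ho hne
  obtain ⟨η, hη⟩ := QuasiSober.sober (isIrreducible_irreducibleComponent (x := x)) isClosed_irreducibleComponent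
  exact ⟨η, (hη.specializes (hsub hqo)).mem_open U.2 hqU, hη.specializes mem_irreducibleComponent⟩

/-- In a Noetherian space of dimension at most one, a point outside a dense open is closed. -/
theorem isClosed_of_notMem {X : Scheme.{u}} [NoetherianSpace X] (hd : topologicalKrullDim X ≤ 1)
    (U : X.Opens) (hU : Dense (U : Set X)) {x : X} (hx : x ∉ U) : IsClosed ({x} : Set X) := by
  refine isClosed_of_closure_subset fun y hy => ?_
  by_contra hne
  obtain ⟨η, hηU, hηx⟩ := exists_mem_specializes U hU x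
  have hxy : x ⤳ y := specializes_iff_mem_closure.2 hy
  let Z (p : X) : IrreducibleCloseds X := ⟨closure {p}, isIrreducible_singleton.closure, isClosed_closure⟩
  have hlt : ∀ {p q : X}, p ⤳ q → p ≠ q → Z q < Z p := fun {p q} hpq hn => by
    refine lt_of_le_of_ne (fun t ht => closure_minimal (Set.singleton_subset_iff.2 hpq.mem_closure)
      isClosed_closure ht) fun he => hn ?_
    have : closure ({q} : Set X) = closure {p} := congrArg (fun z : IrreducibleCloseds X => (z : Set X)) he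
    exact ((specializes_iff_closure_subset.2 this.le).antisymm (specializes_iff_closure_subset.2 this.ge)).eq
  let s : LTSeries (IrreducibleCloseds X) :=
    ((RelSeries.singleton _ (Z y)).snoc (Z x) (hlt hxy (fun e => hne e.symm))).snoc (Z η)
      (hlt hηx (fun e => hx (e ▸ hηU)))
  have h2 : (2 : WithBot ℕ∞) ≤ topologicalKrullDim X := Order.LTSeries.length_le_krullDim s
  exact absurd (h2.trans hd) (by decide)

theorem finite_compl {X : Scheme.{u}} [NoetherianSpace X] (hd : topologicalKrullDim X ≤ 1)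
    (U : X.Opens) (hU : Dense (U : Set X)) : ((U : Set X)ᶜ).Finite := by
  obtain ⟨S, hSf, hSc, hSi, hSe⟩ := NoetherianSpace.exists_finite_set_isClosed_irreducible
    (α := X) U.2.isClosed_compl
  change U.carrierᶜ.Finite
  rw [hSe]
  refine hSf.sUnion fun Z hZ => ?_
  obtain ⟨η, hη⟩ := QuasiSober.sober (hSi Z hZ) (hSc Z hZ)
  have hηS : η ∉ U := (hSe ▸ ⟨Z, hZ, hη.mem⟩ : η ∈ ((U : Set X))ᶜ)
  rw [← hη.def, (isClosed_of_notMem hd U hU hηS).closure_eq]
  exact Set.finite_singleton η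

theorem isClosed_of_finite {X : Type u} [TopologicalSpace X] {s : Set X} (hs : s.Finite)
    (h : ∀ y ∈ s, IsClosed ({y} : Set X)) : IsClosed s := by
  rw [← Set.biUnion_of_singleton s]
  exact hs.isClosed_biUnion h

section

variable {k : Type u} [Field k] [IsAlgClosed k] {C C' : Scheme.{u}} [C.Over (Spec (CommRingCat.of k))]
  [IsProper (C ↘ Spec (CommRingCat.of k))] [IsReduced C] [ConnectedSpace C] [IsReduced C']
  (ν : C' ⟶ C) [IsFinite ν] [Surjective ν]
  (U : C.Opens) [IsIso (ν ∣_ U)]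

local notation "fC" => (C ↘ Spec (CommRingCat.of k))

omit [IsReduced C'] [IsFinite ν] [ConnectedSpace C] [IsProper fC] in
theorem app_injective (W : C.Opens) : Function.Injective (ν.app W) := by
  rw [injective_iff_map_eq_zero]
  intro s hs
  refine eq_zero_of_forall_V0 s fun p hp => ?_
  obtain ⟨q, rfl⟩ := ν.surjective p
  have := (V0_appLE ν (le_refl (ν ⁻¹ᵁ W)) s q hp).1
  refine this ?_
  rw [← Scheme.Hom.app_eq_appLE, hs, V0, map_zero]
  exact zero_mem _

omit [IsReduced C'] [IsReduced C] [ConnectedSpace C] [IsProper fC] [IsFinite ν] [Surjective ν] in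
theorem app_bijective_of_le (W : C.Opens) (hW : W ≤ U) : Function.Bijective (ν.app W) := by
  have h : W = U.ι ''ᵁ (U.ι ⁻¹ᵁ W) := by
    rw [Scheme.Hom.image_preimage_eq_opensRange_inf, Scheme.Opens.opensRange_ι, inf_eq_right.2 hW]
  have h2 : IsIso ((ν ∣_ U).app (U.ι ⁻¹ᵁ W)) := inferInstance
  rw [morphismRestrict_app] at h2
  have h3 : IsIso (ν.app (U.ι ''ᵁ (U.ι ⁻¹ᵁ W))) := @IsIso.of_isIso_comp_right _ _ _ _ _ _ _ (Functor.map_isIso _ _) h2
  rw [h]
  exact ConcreteCategory.bijective_of_isIso _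

omit [IsReduced C'] [IsReduced C] [ConnectedSpace C] [IsProper fC] [IsFinite ν] [Surjective ν] in
theorem eq_of_mem {a b : C'} (h : ν a = ν b) (ha : ν a ∈ U) : a = b := by
  have hb : ν b ∈ U := h ▸ ha
  have : (ν ∣_ U) ⟨a, ha⟩ = (ν ∣_ U) ⟨b, hb⟩ := by
    apply Subtype.ext
    simpa [morphismRestrict_base] using h
  exact congrArg Subtype.val ((ν ∣_ U).isOpenEmbedding.injective this)

variable (hd : topologicalKrullDim C ≤ 1) (hU : Dense (U : Set C))
  (hgen : Curv2.genus k C = 0)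

include hgen in
omit [IsReduced C] [ConnectedSpace C] in
theorem exists_sub {V₁ V₂ : C.Opens} (h : V₁ ⊔ V₂ = ⊤) (y : Γ(C, V₁ ⊓ V₂)) :
    ∃ (a : Γ(C, V₁)) (b : Γ(C, V₂)), C.presheaf.map (homOfLE inf_le_left : V₁ ⊓ V₂ ⟶ V₁).op a -
      C.presheaf.map (homOfLE inf_le_right : V₁ ⊓ V₂ ⟶ V₂).op b = y := by
  have := CurvLib.finite_HH (k := k) (DevissLib.isCoh_structureModule C) 1
  have hs : Subsingleton (Coh.HH C (Coh.structureModule C) 1) := Module.finrank_zero_iff.1 hgen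
  have hs' := (QCohLib.subsingleton_H_iff _ 1).1 hs
  have : Subsingleton (QCohLib.HU (Coh.toAb (Coh.structureModule C)) 1 (V₁ ⊔ V₂)) := by rw [h]; exact hs'
  exact exists_sub_of_subsingleton (Coh.toAb (Coh.structureModule C)) y

/-- `t` is constant on the fibres over `W`. -/
def FibreCst (W : C.Opens) (t : Γ(C', ν ⁻¹ᵁ W)) : Prop :=
  ∀ x ∈ W, x ∉ U → ∃ c : k, ∀ (p : C') (hp : p ∈ ν ⁻¹ᵁ W), ν p = x →
    V0 (t - cst (ν ≫ fC) (ν ⁻¹ᵁ W) c) p hp

include hd hU hgen in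
/-- Functions constant on fibres descend. -/
theorem exists_app_eq (W : C.Opens) (t : Γ(C', ν ⁻¹ᵁ W)) (ht : FibreCst (k := k) ν U W t) :
    ∃ r : Γ(C, W), ν.app W r = t := by
  classical
  have : IsNoetherian C := CurvLib.isNoetherian k
  let f' := ν ≫ fC
  have hloc : ∀ x : C, x ∈ W → ∃ (V : C.Opens) (hV : V ≤ W), x ∈ V ∧
      ∃ r : Γ(C, V), ν.app V r = C'.presheaf.map (homOfLE (ν.preimage_mono hV)).op t := by
    intro x hxW
    by_cases hxU : x ∈ U
    · exact ⟨W ⊓ U, inf_le_left, ⟨hxW, hxU⟩, (app_bijective_of_le ν U _ inf_le_right).2 _⟩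
    have hxc := isClosed_of_notMem hd U hU hxU
    have hSc : IsClosed ((U : Set C)ᶜ \ {x}) :=
      isClosed_of_finite ((finite_compl hd U hU).subset Set.sdiff_subset) fun y hy =>
        isClosed_of_notMem hd U hU hy.1
    let V₁ : C.Opens := W ⊓ ⟨_, hSc.isOpen_compl⟩
    let V₂ : C.Opens := ⟨{x}ᶜ, hxc.isOpen_compl⟩
    have hV₁W : V₁ ≤ W := inf_le_left
    have hxV₁ : x ∈ V₁ := ⟨hxW, fun h => h.2 rfl⟩
    have h12 : V₁ ⊔ V₂ = ⊤ := by
      refine top_le_iff.1 fun y _ => ?_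
      by_cases hy : y = x
      · exact Or.inl (hy ▸ hxV₁)
      · exact Or.inr hy
    have h12U : V₁ ⊓ V₂ ≤ U := fun y hy => by
      by_contra hyU
      exact hy.1.2 ⟨hyU, hy.2⟩
    obtain ⟨y, hy⟩ := (app_bijective_of_le ν U _ h12U).2
      (C'.presheaf.map (homOfLE (ν.preimage_mono (inf_le_left.trans hV₁W))).op t)
    obtain ⟨a, b, hab⟩ := exists_sub hgen h12 y
    let t₁ : Γ(C', ν ⁻¹ᵁ V₁) := C'.presheaf.map (homOfLE (ν.preimage_mono hV₁W)).op t - ν.app V₁ a
    let t₂ : Γ(C', ν ⁻¹ᵁ V₂) := -ν.app V₂ b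
    have hnat : ∀ {A B : C.Opens} (h : A ≤ B) (s : Γ(C, B)),
        C'.presheaf.map (homOfLE (ν.preimage_mono h)).op (ν.app B s) =
          ν.app A (C.presheaf.map (homOfLE h).op s) := fun {A B} h s =>
      (congr($(ν.naturality (homOfLE h).op) s)).symm
    have hcompat : C'.presheaf.map (homOfLE (ν.preimage_mono (inf_le_left : V₁ ⊓ V₂ ≤ V₁))).op t₁ =
        C'.presheaf.map (homOfLE (ν.preimage_mono (inf_le_right : V₁ ⊓ V₂ ≤ V₂))).op t₂ := by
      simp only [t₁, t₂, map_sub, map_neg]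
      rw [hnat (inf_le_left : V₁ ⊓ V₂ ≤ V₁), hnat (inf_le_right : V₁ ⊓ V₂ ≤ V₂)]
      rw [← CommRingCat.comp_apply, ← Functor.map_comp, ← op_comp, homOfLE_comp, ← hy, ← hab, map_sub]
      abel
    let Us : ULift.{u} Bool → C'.Opens := fun i => bif i.down then ν ⁻¹ᵁ V₁ else ν ⁻¹ᵁ V₂
    have hcov : (⊤ : C'.Opens) ≤ iSup Us := fun p _ => by
      have := h12.ge (show ν p ∈ (⊤ : C.Opens) from trivial)
      rcases this with h | h
      · exact Opens.mem_iSup.2 ⟨⟨true⟩, h⟩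
      · exact Opens.mem_iSup.2 ⟨⟨false⟩, h⟩
    let sf : ∀ i, Γ(C', Us i) := fun i => match i with
      | ⟨true⟩ => t₁
      | ⟨false⟩ => t₂
    have hcp : TopCat.Presheaf.IsCompatible C'.sheaf.obj Us sf := by
      rintro ⟨(_ | _)⟩ ⟨(_ | _)⟩
      · rfl
      · refine (congrArg _ (rfl : sf ⟨false⟩ = t₂)).trans ?_
        have := congrArg (C'.presheaf.map (homOfLE (show ν ⁻¹ᵁ V₂ ⊓ ν ⁻¹ᵁ V₁ ≤ ν ⁻¹ᵁ (V₁ ⊓ V₂) from
          fun q hq => ⟨hq.2, hq.1⟩)).op) hcompat
        rw [← CommRingCat.comp_apply, ← CommRingCat.comp_apply, ← Functor.map_comp,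
          ← Functor.map_comp] at this
        exact this.symm
      · have := congrArg (C'.presheaf.map (homOfLE (show ν ⁻¹ᵁ V₁ ⊓ ν ⁻¹ᵁ V₂ ≤ ν ⁻¹ᵁ (V₁ ⊓ V₂) from
          fun q hq => hq)).op) hcompat
        rw [← CommRingCat.comp_apply, ← CommRingCat.comp_apply, ← Functor.map_comp,
          ← Functor.map_comp] at this
        exact this
      · rfl
    obtain ⟨T₀, hT, -⟩ := C'.sheaf.existsUnique_gluing' Us ⊤ (fun i => homOfLE le_top) hcov sf hcp
    obtain ⟨T, rfl⟩ : ∃ T : Γ(C', (⊤ : C'.Opens)), T = T₀ := ⟨T₀, rfl⟩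
    have hT₁ : C'.presheaf.map (homOfLE (le_top : ν ⁻¹ᵁ V₁ ≤ ⊤)).op T = t₁ := hT ⟨true⟩
    have hT₂ : C'.presheaf.map (homOfLE (le_top : ν ⁻¹ᵁ V₂ ≤ ⊤)).op T = t₂ := hT ⟨false⟩
    -- `T` is constant on every fibre
    have hTf : ∀ y : C, ∀ p q : C', ν p = y → ν q = y → ∀ c : k,
        V0 (T - cst f' ⊤ c) p trivial → V0 (T - cst f' ⊤ c) q trivial := by
      intro y p q hp hq c hc
      by_cases hyU : y ∈ U
      · have e := eq_of_mem ν U (hp.trans hq.symm) (hp ▸ hyU)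
        subst e
        exact hc
      have hyc := isClosed_of_notMem hd U hU hyU
      -- the common value
      obtain ⟨d, hd'⟩ : ∃ d : k, ∀ (r : C'), ν r = y → V0 (T - cst f' ⊤ d) r trivial := by
        by_cases hyx : y = x
        · subst hyx
          obtain ⟨c₀, hc₀⟩ := ht _ hxW hxU
          obtain ⟨c₁, hc₁⟩ := exists_cst fC a _ hxV₁ hyc
          refine ⟨c₀ - c₁, fun r hr => ?_⟩
          have hrV : r ∈ ν ⁻¹ᵁ V₁ := show ν r ∈ V₁ from hr ▸ hxV₁
          rw [← V0_map (le_top : ν ⁻¹ᵁ V₁ ≤ ⊤) _ r hrV, map_sub, hT₁, map_cst]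
          have e1 : V0 (C'.presheaf.map (homOfLE (ν.preimage_mono hV₁W)).op
              (t - cst f' (ν ⁻¹ᵁ W) c₀)) r hrV :=
            (V0_map _ _ r hrV).2 (hc₀ r (show ν r ∈ W from hV₁W hrV) hr)
          have e2 : V0 (ν.appLE V₁ (ν ⁻¹ᵁ V₁) le_rfl (a - cst fC V₁ c₁)) r hrV := by
            rw [V0_appLE]
            subst hr
            exact hc₁
          rw [map_sub, map_cst] at e1
          rw [map_sub, appLE_cst fC f' ν rfl, ← Scheme.Hom.app_eq_appLE] at e2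
          simp only [V0, t₁, map_sub] at e1 e2 ⊢
          convert Ideal.sub_mem _ e1 e2 using 1
          abel
        · have hyV : y ∈ V₂ := hyx
          obtain ⟨c₁, hc₁⟩ := exists_cst fC b y hyV hyc
          refine ⟨-c₁, fun r hr => ?_⟩
          have hrV : r ∈ ν ⁻¹ᵁ V₂ := show ν r ∈ V₂ from hr ▸ hyV
          rw [← V0_map (le_top : ν ⁻¹ᵁ V₂ ≤ ⊤) _ r hrV, map_sub, hT₂, map_cst]
          have e2 : V0 (ν.appLE V₂ (ν ⁻¹ᵁ V₂) le_rfl (b - cst fC V₂ c₁)) r hrV := by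
            rw [V0_appLE]
            subst hr
            exact hc₁
          rw [map_sub, appLE_cst fC f' ν rfl, ← Scheme.Hom.app_eq_appLE] at e2
          simp only [V0, t₂, map_sub, map_neg] at e2 ⊢
          convert neg_mem e2 using 1
          abel
      have hcd : c = d := by
        by_contra hne
        have h1 := Ideal.sub_mem _ hc (hd' p hp)
        rw [← map_sub] at h1
        have e : T - cst f' ⊤ c - (T - cst f' ⊤ d) = cst f' ⊤ (d - c) := by rw [map_sub]; ring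
        rw [e] at h1
        exact (IsLocalRing.mem_maximalIdeal _).1 h1
          (((isUnit_iff_ne_zero.2 (sub_ne_zero.2 (Ne.symm hne))).map (cst f' ⊤)).map _)
      exact hcd ▸ hd' q hq
    have hproper : IsProper f' := inferInstance
    obtain ⟨R, hR⟩ := exists_values f' T
    let Zc : k → Set C := fun c => ν '' {p : C' | V0 (T - cst f' ⊤ c) p trivial}
    have hZcl : ∀ c, IsClosed (Zc c) := fun c => by
      refine ν.isClosedMap _ ?_
      have e : {p : C' | V0 (T - cst f' ⊤ c) p trivial} = ((C'.basicOpen (T - cst f' ⊤ c) : Set C'))ᶜ := by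
        ext p
        simp [V0, IsLocalRing.mem_maximalIdeal, Scheme.mem_basicOpen _ _ p (show p ∈ (⊤ : C'.Opens) from trivial)]
      rw [e]
      exact (C'.basicOpen _).2.isClosed_compl
    obtain ⟨p₀, hp₀⟩ := ν.surjective x
    obtain ⟨c₀, -, hc₀⟩ := hR p₀
    have hall : Zc c₀ = Set.univ := by
      refine IsClopen.eq_univ ⟨hZcl c₀, ?_⟩ ⟨x, p₀, hc₀, hp₀⟩
      rw [← isClosed_compl_iff]
      have e : (Zc c₀)ᶜ = ⋃ c ∈ R.erase c₀, Zc c := by
        ext y
        simp only [Set.mem_compl_iff, Set.mem_iUnion, Finset.mem_erase, exists_prop]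
        constructor
        · intro hy
          obtain ⟨p, rfl⟩ := ν.surjective y
          obtain ⟨c, hc, hcp⟩ := hR p
          exact ⟨c, ⟨fun e => hy ⟨p, e ▸ hcp, rfl⟩, hc⟩, p, hcp, rfl⟩
        · rintro ⟨c, ⟨hne, -⟩, p, hp, rfl⟩ ⟨q, hq, hqe⟩
          have h1 := Ideal.sub_mem _ hp (hTf (ν p) q p hqe rfl c₀ hq)
          rw [← map_sub, show T - cst f' ⊤ c - (T - cst f' ⊤ c₀) = cst f' ⊤ (c₀ - c) by
            rw [map_sub]; ring] at h1
          exact (IsLocalRing.mem_maximalIdeal _).1 h1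
            (((isUnit_iff_ne_zero.2 (sub_ne_zero.2 (Ne.symm hne))).map (cst f' ⊤)).map _)
      rw [e]
      exact (R.erase c₀).finite_toSet.isClosed_biUnion fun c _ => hZcl c
    have hTc : T = cst f' ⊤ c₀ := by
      refine sub_eq_zero.1 (eq_zero_of_forall_V0 _ fun p _ => ?_)
      obtain ⟨q, hq, hqe⟩ := hall.ge (Set.mem_univ (ν p))
      exact hTf (ν p) q p hqe rfl c₀ hq
    refine ⟨V₁, hV₁W, hxV₁, a + cst fC V₁ c₀, ?_⟩
    have e := hT₁
    rw [hTc, map_cst] at e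
    rw [map_add, Scheme.Hom.app_eq_appLE, appLE_cst fC f' ν rfl, e]
    simp only [t₁, Scheme.Hom.app_eq_appLE]
    abel
  choose V hVW hxV r hr using hloc
  let Us : W → C.Opens := fun x => V x.1 x.2
  have hcov : W ≤ iSup Us := fun x hx => Opens.mem_iSup.2 ⟨⟨x, hx⟩, hxV x hx⟩
  have hnat : ∀ {A B : C.Opens} (h : A ≤ B) (s : Γ(C, B)),
      C'.presheaf.map (homOfLE (ν.preimage_mono h)).op (ν.app B s) =
        ν.app A (C.presheaf.map (homOfLE h).op s) := fun {A B} h s =>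
    (congr($(ν.naturality (homOfLE h).op) s)).symm
  have hcp : TopCat.Presheaf.IsCompatible C.sheaf.obj Us (fun x => r x.1 x.2) := by
    intro x y
    apply app_injective ν (Us x ⊓ Us y)
    change ν.app (Us x ⊓ Us y) (C.presheaf.map (homOfLE inf_le_left).op (r x.1 x.2)) =
      ν.app (Us x ⊓ Us y) (C.presheaf.map (homOfLE inf_le_right).op (r y.1 y.2))
    rw [← hnat, ← hnat, hr, hr, ← CommRingCat.comp_apply, ← CommRingCat.comp_apply,
      ← Functor.map_comp, ← Functor.map_comp]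
    rfl
  obtain ⟨s, hs, -⟩ := C.sheaf.existsUnique_gluing' Us W (fun x => homOfLE (hVW x.1 x.2)) hcov _ hcp
  refine ⟨s, ?_⟩
  refine TopCat.Sheaf.eq_of_locally_eq' C'.sheaf (fun x => ν ⁻¹ᵁ Us x) (ν ⁻¹ᵁ W)
    (fun x => homOfLE (ν.preimage_mono (hVW x.1 x.2))) (fun p hp => Opens.mem_iSup.2 ⟨⟨ν p, hp⟩, hxV _ hp⟩) _ _ fun x => ?_
  exact (hnat (hVW x.1 x.2) s).trans ((congrArg (ν.app _) (hs x)).trans (hr x.1 x.2))

include hd hU hgen in
/-- Over a point with regular local ring the normalization has one point. -/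
theorem eq_of_isRegular [NoetherianSpace C'] (hU' : Dense ((ν ⁻¹ᵁ U : C'.Opens) : Set C')) (x : C)
    (hreg : IsRegularLocalRing (C.presheaf.stalk x)) (p₁ p₂ : C') (h₁ : ν p₁ = x) (h₂ : ν p₂ = x) : p₁ = p₂ := by
  classical
  by_cases hxU : x ∈ U
  · exact eq_of_mem ν U (h₁.trans h₂.symm) (h₁ ▸ hxU)
  have : IsNoetherian C := CurvLib.isNoetherian k
  have hxc := isClosed_of_notMem hd U hU hxU
  by_contra hne
  let R := C.presheaf.stalk x
  have hdimR : ringKrullDim R ≤ 1 := (MiscFlat6.ringKrullDim_stalk_le C x).trans hd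
  have hprinc : ∃ t : R, IsLocalRing.maximalIdeal R = Ideal.span {t} := by
    obtain ⟨s, hs, hse⟩ := Submodule.FG.exists_span_finset_card_eq_spanFinrank
      (IsNoetherian.noetherian (IsLocalRing.maximalIdeal R))
    have h1 : ((s.card : ℕ) : WithBot ℕ∞) ≤ 1 := hs ▸ hreg.spanFinrank_maximalIdeal.trans_le hdimR
    have h1' : s.card ≤ 1 := by exact_mod_cast h1
    rcases Finset.card_le_one_iff_subset_singleton.1 h1' with ⟨t, ht⟩
    rcases Finset.subset_singleton_iff.1 ht with h | h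
    · exact ⟨0, by rw [← hse, h]; simp⟩
    · exact ⟨t, by rw [← hse, h]; simp⟩
  obtain ⟨τ, hτ⟩ := hprinc
  obtain ⟨N, hxN, t, ht⟩ := C.presheaf.exists_germ_eq τ
  have hSc : IsClosed ((U : Set C)ᶜ \ {x}) :=
    isClosed_of_finite ((finite_compl hd U hU).subset Set.sdiff_subset) fun y hy =>
      isClosed_of_notMem hd U hU hy.1
  obtain ⟨_, ⟨W, hW, rfl⟩, hxW, hWN⟩ := C.isBasis_affineOpens.exists_subset_of_mem_open
    (show x ∈ N ⊓ ⟨_, hSc.isOpen_compl⟩ from ⟨hxN, fun h => h.2 rfl⟩) (Opens.isOpen _)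
  have hWN' : W ≤ N := fun y hy => (hWN hy).1
  let tW : Γ(C, W) := C.presheaf.map (homOfLE hWN').op t
  have htW : C.presheaf.germ W x hxW tW = τ := by
    rw [TopCat.Presheaf.germ_res_apply]
    exact ht
  have hW' : IsAffineOpen (ν ⁻¹ᵁ W) := hW.preimage ν
  have hm₁ : p₁ ∈ ν ⁻¹ᵁ W := show ν p₁ ∈ W from h₁ ▸ hxW
  have hm₂ : p₂ ∈ ν ⁻¹ᵁ W := show ν p₂ ∈ W from h₂ ▸ hxW
  wlog hsep : ∃ e : Γ(C', ν ⁻¹ᵁ W), ¬ V0 e p₁ hm₁ ∧ V0 e p₂ hm₂ generalizing p₁ p₂
  · refine this p₂ p₁ h₂ h₁ (Ne.symm hne) hm₂ hm₁ ?_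
    by_contra hcon
    refine hne ?_
    have hle : (hW'.primeIdealOf ⟨p₁, hm₁⟩).asIdeal = (hW'.primeIdealOf ⟨p₂, hm₂⟩).asIdeal := by
      refine le_antisymm (fun e he => ?_) (fun e he => ?_)
      · by_contra h
        exact hcon ⟨e, fun h' => h ((mem_prime_iff hW' e p₂ hm₂).1 h'), (mem_prime_iff hW' e p₁ hm₁).2 he⟩
      · by_contra h
        exact hsep ⟨e, fun h' => h ((mem_prime_iff hW' e p₁ hm₁).1 h'), (mem_prime_iff hW' e p₂ hm₂).2 he⟩
    have h := congrArg hW'.fromSpec (PrimeSpectrum.ext hle)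
    rwa [hW'.fromSpec_primeIdealOf, hW'.fromSpec_primeIdealOf] at h
  obtain ⟨e, he₁, he₂⟩ := hsep
  have htx : ∀ (p : C') (hp : p ∈ ν ⁻¹ᵁ W), ν p = x → V0 (ν.app W tW) p hp := fun p hp hpx => by
    rw [Scheme.Hom.app_eq_appLE, V0_appLE]
    subst hpx
    rw [V0, htW, hτ]
    exact Ideal.mem_span_singleton_self τ
  have hfib : FibreCst (k := k) ν U W (e * ν.app W tW) := fun y hyW hyU => by
    have hyx : y = x := by
      by_contra h
      exact (hWN hyW).2 ⟨hyU, h⟩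
    refine ⟨0, fun p hp hpy => ?_⟩
    rw [map_zero, sub_zero, V0, map_mul]
    exact Ideal.mul_mem_left _ _ (htx p hp (hpy.trans hyx))
  obtain ⟨a, ha⟩ := exists_app_eq ν U hd hU hgen W _ hfib
  have hax : V0 a x hxW := by
    subst h₁
    rw [← V0_appLE ν (le_refl (ν ⁻¹ᵁ W)) a p₁ hm₁, ← Scheme.Hom.app_eq_appLE, ha, V0, map_mul]
    exact Ideal.mul_mem_left _ _ (htx p₁ hm₁ rfl)
  rw [V0, hτ, Ideal.mem_span_singleton] at hax
  obtain ⟨γ, hγ⟩ := hax
  -- maps to the stalks upstairs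
  have hφ : ∀ (p : C') (hp : p ∈ ν ⁻¹ᵁ W) (hpx : ν p = x), ∃ φ : R →+* C'.presheaf.stalk p,
      IsLocalHom φ ∧ ∀ s : Γ(C, W), φ (C.presheaf.germ W x hxW s) = C'.presheaf.germ _ p hp (ν.app W s) := by
    rintro p hp rfl
    exact ⟨(ν.stalkMap p).hom, inferInstance, fun s => Scheme.Hom.germ_stalkMap_apply ν W p _ s⟩
  have hkey : ∀ (p : C') (hp : p ∈ ν ⁻¹ᵁ W), ν p = x → ∀ (φ : R →+* C'.presheaf.stalk p),
      (∀ s : Γ(C, W), φ (C.presheaf.germ W x hxW s) = C'.presheaf.germ _ p hp (ν.app W s)) →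
      C'.presheaf.germ _ p hp e - φ γ ∈ IsLocalRing.maximalIdeal (C'.presheaf.stalk p) := by
    intro p hp hpx φ hφs
    by_contra hu
    rw [IsLocalRing.mem_maximalIdeal, mem_nonunits_iff, not_not] at hu
    have hz : φ τ = 0 := by
      refine hu.mul_left_eq_zero.1 ?_
      have h1 : C'.presheaf.germ _ p hp e * φ τ = φ τ * φ γ := by
        rw [← map_mul φ, ← hγ, hφs, ha, map_mul, ← htW, hφs]
      linear_combination h1
    obtain ⟨η, hηU, hηp⟩ := exists_mem_specializes (ν ⁻¹ᵁ U) hU' p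
    have hηW : η ∈ ν ⁻¹ᵁ W := hηp.mem_open (ν ⁻¹ᵁ W).2 hp
    have hne' : ¬ (hW.primeIdealOf ⟨x, hxW⟩).asIdeal ≤ (hW.primeIdealOf ⟨ν η, hηW⟩).asIdeal := fun h => by
      have h' := (PrimeSpectrum.le_iff_specializes (hW.primeIdealOf ⟨x, hxW⟩) (hW.primeIdealOf ⟨ν η, hηW⟩)).1 h
      have h'' := h'.map hW.fromSpec.continuous
      rw [hW.fromSpec_primeIdealOf, hW.fromSpec_primeIdealOf] at h''
      have hm : ν η ∈ closure ({x} : Set C) := h''.mem_closure
      rw [hxc.closure_eq] at hm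
      exact hxU ((Set.mem_singleton_iff.1 hm) ▸ hηU)
    obtain ⟨s, hs, hs'⟩ := SetLike.not_le_iff_exists.1 hne'
    rw [← mem_prime_iff hW, V0, hτ, Ideal.mem_span_singleton] at hs
    obtain ⟨σ, hσ⟩ := hs
    refine hs' ((mem_prime_iff hW s (ν η) hηW).1 ?_)
    rw [← V0_appLE ν (le_refl (ν ⁻¹ᵁ W)) s η hηW, ← Scheme.Hom.app_eq_appLE]
    have h0 : C'.presheaf.germ _ p hp (ν.app W s) = 0 := by
      rw [← hφs, hσ, map_mul, hz, zero_mul]
    rw [V0, ← C'.presheaf.germ_stalkSpecializes_apply hp hηp, h0, map_zero]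
    exact zero_mem _
  obtain ⟨φ₁, hl₁, hφ₁⟩ := hφ p₁ hm₁ h₁
  obtain ⟨φ₂, hl₂, hφ₂⟩ := hφ p₂ hm₂ h₂
  have k₁ := hkey p₁ hm₁ h₁ φ₁ hφ₁
  have k₂ := hkey p₂ hm₂ h₂ φ₂ hφ₂
  have hγ₂ : γ ∈ IsLocalRing.maximalIdeal R := by
    rw [IsLocalRing.mem_maximalIdeal, mem_nonunits_iff]
    intro h
    have := Ideal.sub_mem _ he₂ k₂
    rw [sub_sub_cancel] at this
    exact (IsLocalRing.mem_maximalIdeal _).1 this (h.map φ₂)
  refine he₁ ?_
  have hγ₁ : φ₁ γ ∈ IsLocalRing.maximalIdeal (C'.presheaf.stalk p₁) := by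
    rw [IsLocalRing.mem_maximalIdeal, mem_nonunits_iff] at hγ₂ ⊢
    exact fun h => hγ₂ (isUnit_of_map_unit φ₁ γ h)
  have := Ideal.add_mem _ k₁ hγ₁
  rwa [sub_add_cancel] at this

end

end SeminormLib
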