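import Groth.Prelude.Def_Coh
import Groth.Agent.QCohLib.AbCoh
import Mathlib

/-!
# Reduced proper curves with `H¹(O) = 0`: functions constant on the fibres of a finite birational cover descend
-/

set_option autoImplicit false

universe u

open CategoryTheory CategoryTheory.Limits AlgebraicGeometry Opposite TopologicalSpace CategoryTheory.Abelian

namespace SeminormLib

section MV

variable {X : TopCat.{u}}

open QCohLib in
theorem exists_sub_of_subsingleton (F : AbSh X) {U V : Opens X} [Subsingleton (HU F 1 (U ⊔ V))]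
    (y : F.obj.obj (op (U ⊓ V))) :
    ∃ (a : F.obj.obj (op U)) (b : F.obj.obj (op V)),
      F.obj.map (homOfLE inf_le_left : U ⊓ V ⟶ U).op a -
        F.obj.map (homOfLE inf_le_right : U ⊓ V ⟶ V).op b = y := by
  obtain ⟨φ, rfl⟩ := zEquiv.surjective y
  have hS := mvSeq_shortExact U V
  obtain ⟨y', hy'⟩ := Ext.contravariant_sequence_exact₁ hS F (Ext.mk₀ φ) (show 1 + 0 = 1 from rfl)
    (Subsingleton.elim (α := HU F 1 (U ⊔ V)) _ _)
  obtain ⟨ψ, rfl⟩ := (Ext.mk₀_bijective _ _).2 y'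
  rw [Ext.mk₀_comp_mk₀] at hy'
  have h := (Ext.mk₀_bijective _ _).1 hy'
  refine ⟨zEquiv (biprod.inl ≫ ψ), zEquiv (biprod.inr ≫ ψ), ?_⟩
  rw [← zEquiv_zmap, ← zEquiv_zmap, ← map_sub, ← h]
  congr 1
  change _ = biprod.lift _ _ ≫ ψ
  rw [biprod.lift_eq, Preadditive.add_comp]
  simp [sub_eq_add_neg]

end MV

variable {k : Type u} [Field k] {X : Scheme.{u}} (f : X ⟶ Spec (CommRingCat.of k))

/-- Constants. -/
noncomputable def cst (W : X.Opens) : k →+* Γ(X, W) :=
  ((Scheme.ΓSpecIso (CommRingCat.of k)).inv ≫ f.appLE ⊤ W le_top).hom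

theorem map_cst {W V : X.Opens} (h : V ≤ W) (c : k) :
    X.presheaf.map (homOfLE h).op (cst f W c) = cst f V c := by
  simp only [cst, CommRingCat.hom_comp, RingHom.comp_apply]
  rw [← CommRingCat.comp_apply, Scheme.Hom.appLE_map]

theorem appLE_cst {Y : Scheme.{u}} (f' : Y ⟶ Spec (CommRingCat.of k)) (g : Y ⟶ X) (hg : g ≫ f = f')
    {W : X.Opens} {V : Y.Opens} (h : V ≤ g ⁻¹ᵁ W) (c : k) :
    g.appLE W V h (cst f W c) = cst f' V c := by
  subst hg
  simp only [cst, CommRingCat.hom_comp, RingHom.comp_apply]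
  rw [← CommRingCat.comp_apply, Scheme.Hom.appLE_comp_appLE]

/-- The function `s` vanishes at the point `p`. -/
def V0 {W : X.Opens} (s : Γ(X, W)) (p : X) (hp : p ∈ W) : Prop :=
  X.presheaf.germ W p hp s ∈ IsLocalRing.maximalIdeal _

theorem V0_map {W V : X.Opens} (h : V ≤ W) (s : Γ(X, W)) (p : X) (hp : p ∈ V) :
    V0 (X.presheaf.map (homOfLE h).op s) p hp ↔ V0 s p (h hp) := by
  simp only [V0, TopCat.Presheaf.germ_res_apply]

theorem V0_appLE {Y : Scheme.{u}} (g : Y ⟶ X) {W : X.Opens} {V : Y.Opens} (h : V ≤ g ⁻¹ᵁ W)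
    (s : Γ(X, W)) (p : Y) (hp : p ∈ V) :
    V0 (g.appLE W V h s) p hp ↔ V0 s (g p) (h hp) := by
  simp only [V0, Scheme.Hom.appLE, CommRingCat.comp_apply, TopCat.Presheaf.germ_res_apply]
  rw [← Scheme.Hom.germ_stalkMap_apply g W p (h hp) s]
  simp only [IsLocalRing.mem_maximalIdeal, mem_nonunits_iff, isUnit_map_iff]

theorem mem_prime_iff {W : X.Opens} (hW : IsAffineOpen W) (s : Γ(X, W)) (p : X) (hp : p ∈ W) :
    V0 s p hp ↔ s ∈ (hW.primeIdealOf ⟨p, hp⟩).asIdeal := by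
  have h1 : p ∈ X.basicOpen s ↔ s ∉ (hW.primeIdealOf ⟨p, hp⟩).asIdeal := by
    have e : hW.fromSpec (hW.primeIdealOf ⟨p, hp⟩) = p := hW.fromSpec_primeIdealOf ⟨p, hp⟩
    conv_lhs => rw [← e]
    change hW.primeIdealOf ⟨p, hp⟩ ∈ hW.fromSpec ⁻¹ᵁ X.basicOpen s ↔ _
    rw [hW.fromSpec_preimage_basicOpen]
    rfl
  rw [Scheme.mem_basicOpen _ s p hp] at h1
  rw [V0, IsLocalRing.mem_maximalIdeal, mem_nonunits_iff, h1, not_not]

theorem exists_cst [IsAlgClosed k] [LocallyOfFiniteType f] {W : X.Opens} (s : Γ(X, W)) (p : X) (hp : p ∈ W)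
    (hc : IsClosed ({p} : Set X)) : ∃ c : k, V0 (s - cst f W c) p hp := by
  obtain ⟨_, ⟨A, hA, rfl⟩, hpA, hAW⟩ := X.isBasis_affineOpens.exists_subset_of_mem_open hp W.2
  have hAW' : A ≤ W := hAW
  have hft : (cst f A).FiniteType := by
    simp only [cst, CommRingCat.hom_comp]
    exact (f.finiteType_appLE (isAffineOpen_top _) hA le_top).comp
      (RingHom.FiniteType.of_surjective _
        (Scheme.ΓSpecIso (CommRingCat.of k)).symm.commRingCatIsoToRingEquiv.surjective)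
  let := (cst f A).toAlgebra
  have : Algebra.FiniteType k Γ(X, A) := hft
  have hmax : (hA.primeIdealOf ⟨p, hpA⟩).asIdeal.IsMaximal :=
    hA.primeIdealOf_isMaximal_of_isClosed ⟨p, hpA⟩ hc
  let P := (hA.primeIdealOf ⟨p, hpA⟩).asIdeal
  let := Ideal.Quotient.field P
  have : Module.Finite k (Γ(X, A) ⧸ P) := finite_of_finite_type_of_isJacobsonRing k _
  obtain ⟨c, hc'⟩ := (IsAlgClosed.algebraMap_bijective_of_isIntegral (k := k) (K := Γ(X, A) ⧸ P)).2
    (Ideal.Quotient.mk P (X.presheaf.map (homOfLE hAW').op s))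
  refine ⟨c, (V0_map hAW' _ p hpA).1 ?_⟩
  rw [mem_prime_iff hA, map_sub, map_cst]
  exact Ideal.Quotient.eq.1 (hc'.symm.trans rfl)

theorem eq_zero_of_forall_V0 [IsReduced X] {W : X.Opens} (s : Γ(X, W))
    (h : ∀ (p : X) (hp : p ∈ W), V0 s p hp) : s = 0 := by
  rw [← basicOpen_eq_bot_iff]
  ext p
  refine ⟨fun hp => ?_, fun hp => hp.elim⟩
  have hpW := X.basicOpen_le s hp
  exact absurd ((Scheme.mem_basicOpen _ s p hpW).1 hp)
    ((IsLocalRing.mem_maximalIdeal _).1 (h p hpW))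

/-- A global function on a proper scheme takes finitely many values in an algebraically closed field. -/
theorem exists_values [IsAlgClosed k] [UniversallyClosed f] (T : Γ(X, (⊤ : X.Opens))) :
    ∃ R : Finset k, ∀ p : X, ∃ c ∈ R, V0 (T - cst f ⊤ c) p trivial := by
  classical
  let := (cst f ⊤).toAlgebra
  have hint : (cst f ⊤).IsIntegral := by
    have : cst f ⊤ = ((Scheme.ΓSpecIso (CommRingCat.of k)).inv ≫ f.appTop).hom := by
      simp [cst, Scheme.Hom.appTop, Scheme.Hom.appLE]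
    rw [this]
    exact RingHom.IsIntegral.trans _ _
      (RingHom.isIntegral_of_surjective _
        (Scheme.ΓSpecIso (CommRingCat.of k)).symm.commRingCatIsoToRingEquiv.surjective)
      (isIntegral_appTop_of_universallyClosed f)
  obtain ⟨P, hPm, hP⟩ := hint T
  refine ⟨P.roots.toFinset, fun p => ?_⟩
  have hspl := IsAlgClosed.splits P
  rw [hspl.eq_prod_roots_of_monic hPm, Polynomial.eval₂_multiset_prod, Multiset.map_map] at hP
  let g := X.presheaf.germ ⊤ p trivial
  have h0 := congrArg g.hom hP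
  rw [map_zero, map_multiset_prod, Multiset.map_map] at h0
  have : (Multiset.map _ P.roots).prod ∈ IsLocalRing.maximalIdeal (X.presheaf.stalk p) :=
    h0.symm ▸ zero_mem _
  rw [(IsLocalRing.maximalIdeal.isMaximal _).isPrime.multiset_prod_mem_iff_exists_mem] at this
  obtain ⟨a, ha, ham⟩ := this
  obtain ⟨c, hc, rfl⟩ := Multiset.mem_map.1 ha
  refine ⟨c, Multiset.mem_toFinset.2 hc, ?_⟩
  simpa [V0, g] using ham

end SeminormLib
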